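import Groth.Agent.H7Lim.Approx.RelOpen.Stages
import Groth.Agent.H7Lim.Approx.LimitExists
import Groth.Agent.H7Lim.Sections

/-!
# The limit of the approximation relative to an open
-/

set_option autoImplicit false
set_option backward.isDefEq.respectTransparency false
set_option linter.style.haveILetI false
set_option linter.unusedSectionVars false

universe u

open AlgebraicGeometry CategoryTheory CategoryTheory.Limits Opposite TopologicalSpace
open AlgebraicGeometry.Scheme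

namespace Groth.Agent.H7Lim.Approx.RelOpen

/-- Composition of `appLE` applied to an element. -/
theorem appLE_appLE_of_eq {A B C : Scheme.{u}} (g : A ⟶ B) (h : B ⟶ C) (k : A ⟶ C) (e : g ≫ h = k)
    {O : C.Opens} {P : B.Opens} {Q : A.Opens} (h₁ : P ≤ h ⁻¹ᵁ O) (h₂ : Q ≤ g ⁻¹ᵁ P) (h₃ : Q ≤ k ⁻¹ᵁ O)
    (x : Γ(C, O)) : g.appLE P Q h₂ (h.appLE O P h₁ x) = k.appLE O Q h₃ x := by
  subst e
  rw [← CommRingCat.comp_apply, Scheme.Hom.appLE_comp_appLE]

/-- Changing the source open of `appLE`. -/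
theorem appLE_eq_map_of_eq {A B : Scheme.{u}} (g : A ⟶ B) {O : B.Opens} {P P' : A.Opens} (h : P ≤ g ⁻¹ᵁ O)
    (h' : P' ≤ g ⁻¹ᵁ O) (e : P' ≤ P) (t : Γ(B, O)) :
    g.appLE O P' h' t = A.presheaf.map (homOfLE e).op (g.appLE O P h t) := by
  rw [← CommRingCat.comp_apply, Scheme.Hom.appLE_map]

section General

variable {J : Type u} [Category.{u} J] [IsCofiltered J] {D : J ⥤ Scheme.{u}} {c : Cone D}
  [∀ (i j : J) (f : i ⟶ j), IsAffineHom (D.map f)] [∀ i, CompactSpace (D.obj i)]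
  [∀ i, QuasiSeparatedSpace (D.obj i)] (hc : IsLimit c)

include hc in
/-- Sections over the preimage of a quasi-compact open come from a stage. -/
theorem exists_secπ_eq_of_isCompact {i : J} {U : (D.obj i).Opens} (hU : IsCompact (U : Set (D.obj i)))
    (s : Γ(c.pt, c.π.app i ⁻¹ᵁ U)) :
    ∃ (j : J) (φ : j ⟶ i) (t : Γ(D.obj j, D.map φ ⁻¹ᵁ U)), secπ φ U t = s := by
  have (j : Over i) : CompactSpace ((opensDiagram D i U).obj j) :=
    isCompact_iff_compactSpace.mp (QuasiCompact.isCompact_preimage (f := D.map j.hom) _ U.2 hU)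
  have (j : Over i) : QuasiSeparatedSpace ((opensDiagram D i U).obj j) :=
    quasiSeparatedSpace_of_quasiSeparated (D.map j.hom ⁻¹ᵁ U).ι
  obtain ⟨j, t, ht⟩ := exists_appTop_π_eq_of_isLimit _ _
    (isLimitOpensCone D c hc i U) ((c.π.app i ⁻¹ᵁ U).topIso.inv s)
  refine ⟨j.left, j.hom, (D.map j.hom ⁻¹ᵁ U).topIso.hom t, ?_⟩
  have := congrArg (c.π.app i ⁻¹ᵁ U).topIso.hom ht.symm
  have e : ((opensCone D c i U).π.app j) = (c.π.app j.left).resLE (D.map j.hom ⁻¹ᵁ U) (c.π.app i ⁻¹ᵁ U)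
      (π_preimage_le j.hom U) := rfl
  simp only [e, Scheme.Hom.appTop, secπ, ← ConcreteCategory.comp_apply] at this ⊢
  simp [Scheme.Hom.app_eq_appLE, Scheme.Hom.resLE_appLE] at this ⊢
  exact (congr($(Scheme.Hom.appLE_map (c.π.app j.left) _ _) t)).symm.trans this

variable {Y : Scheme.{u}} [QuasiSeparatedSpace Y]

include hc in
/-- A morphism from a stage which is affine on the limit over `W` is affine over `W` at some stage. -/
theorem exists_affine_stage {i : J} (q : D.obj i ⟶ Y) (W : Y.Opens) (hWc : IsCompact (W : Set Y))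
    (hmem : ∀ x, q x ∈ W) (h : ∀ U : Y.affineOpens, U.1 ≤ W → IsAffineOpen ((c.π.app i ≫ q) ⁻¹ᵁ U.1)) :
    ∃ (j : J) (φ : j ⟶ i), ∀ U : Y.affineOpens, U.1 ≤ W → IsAffineOpen ((D.map φ ≫ q) ⁻¹ᵁ U.1) := by
  classical
  obtain ⟨T, hT, hTeq⟩ := isCompact_iff_finite_and_eq_biUnion_affineOpens.1 hWc
  have hqc : ∀ U : Y.affineOpens, IsCompact (q ⁻¹ᵁ U.1 : Set (D.obj i)) := fun U =>
    q.isCompact_preimage U.2.isCompact
  have hB : ∀ B : Y.affineOpens, B ∈ T → ∃ (j : J) (φ : j ⟶ i), IsAffineOpen ((D.map φ ≫ q) ⁻¹ᵁ B.1) := by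
    intro B hB
    let O := q ⁻¹ᵁ B.1
    have (j : Over i) : CompactSpace ((opensDiagram D i O).obj j) :=
      isCompact_iff_compactSpace.mp (QuasiCompact.isCompact_preimage (f := D.map j.hom) _ O.2 (hqc B))
    have (j : Over i) : QuasiSeparatedSpace ((opensDiagram D i O).obj j) :=
      quasiSeparatedSpace_of_quasiSeparated (D.map j.hom ⁻¹ᵁ O).ι
    have : IsAffine (opensCone D c i O).pt := by
      have hle : B.1 ≤ W := (le_iSup₂ (f := fun (V : Y.affineOpens) (_ : V ∈ T) => V.1) B hB).trans_eq hTeq.symm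
      exact h B hle
    obtain ⟨j, hj⟩ := Scheme.exists_isAffine_of_isLimit (opensDiagram D i O) _ (isLimitOpensCone D c hc i O)
    exact ⟨j.left, j.hom, hj⟩
  choose j φ hj using fun B : T => hB B.1 B.2
  haveI := hT.to_subtype
  haveI := Fintype.ofFinite T
  obtain ⟨n, ⟨e⟩⟩ := Finite.exists_equiv_fin T
  obtain ⟨k, φk, ψ, hψ⟩ := IsCofiltered.wideCospan fun b => φ (e.symm b)
  refine ⟨k, φk, fun U hU => ?_⟩
  let p := D.map φk ≫ q
  have hp' : ∀ b, IsAffineOpen (p ⁻¹ᵁ (e.symm b).1.1) := fun b => by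
    have := (hj (e.symm b)).preimage (D.map (ψ b))
    rwa [← Scheme.Hom.comp_preimage, ← Category.assoc, ← D.map_comp, hψ b] at this
  have hp : ∀ B : T, IsAffineOpen (p ⁻¹ᵁ B.1.1) := fun B => by
    have := hp' (e B)
    rwa [e.symm_apply_apply] at this
  let p' : D.obj k ⟶ W.toScheme := IsOpenImmersion.lift W.ι p (by
    rw [Scheme.Opens.range_ι]; rintro _ ⟨x, rfl⟩; exact hmem _)
  have hp' : p' ≫ W.ι = p := IsOpenImmersion.lift_fac _ _ _
  have : IsAffineHom p' := by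
    refine isAffineHom_of_forall_exists_isAffineOpen p' fun w => ?_
    obtain ⟨B, hw⟩ := Opens.mem_iSup.mp (hTeq.le w.2)
    obtain ⟨hB, hwB⟩ := Opens.mem_iSup.mp hw
    have hle : B.1 ≤ W := (le_iSup₂ (f := fun (V : Y.affineOpens) (_ : V ∈ T) => V.1) B hB).trans_eq hTeq.symm
    refine ⟨W.ι ⁻¹ᵁ B.1, hwB, B.2.preimage_of_isOpenImmersion W.ι (by rw [Scheme.Opens.opensRange_ι]; exact hle), ?_⟩
    rw [← Scheme.Hom.comp_preimage, hp']
    exact hp ⟨B, hB⟩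
  have := (U.2.preimage_of_isOpenImmersion W.ι (by rw [Scheme.Opens.opensRange_ι]; exact hU)).preimage p'
  rwa [← Scheme.Hom.comp_preimage, hp'] at this

end General

variable {S Y : Scheme.{u}} [CompactSpace S] [QuasiSeparatedSpace S] [CompactSpace Y]
  [QuasiSeparatedSpace Y] {I : Type u} [Preorder I] [IsDirected I (fun a b => a ≤ b)] [Nonempty I]
  (X : Setup S Y I)

namespace Setup

theorem exists_lift_section (U : Y.affineOpens) (z : Γ(X.c.pt, (X.emb ≫ X.f) ⁻¹ᵁ U.1)) :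
    ∃ (k : X.K) (b : Γ(X.E k, X.q k ⁻¹ᵁ U.1)),
      (X.v k).appLE _ _ (preimage_le _ _ (X.v_q k) U.1) b = z := by
  have e : X.c.π.app (op X.i₁) ⁻¹ᵁ (X.q₀ ⁻¹ᵁ U.1) = (X.emb ≫ X.f) ⁻¹ᵁ U.1 := by
    rw [← Scheme.Hom.comp_preimage, X.fac]
  obtain ⟨j, φ, t, ht⟩ := exists_secπ_eq_of_isCompact X.hc
    (X.q₀.isCompact_preimage U.2.isCompact) (X.c.pt.presheaf.map (homOfLE e.le).op z)
  refine ⟨⟨j.unop, leOfHom φ.unop⟩, t, ?_⟩
  refine (appLE_eq_map_of_eq _ (π_preimage_le φ _) _ e.ge t).trans ?_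
  exact (congrArg _ ht).trans (map_map_of_eq _ _ _)

theorem exists_zero_stage (k : X.K) (U : Y.affineOpens) (b : Γ(X.E k, X.q k ⁻¹ᵁ U.1))
    (hb : (X.v k).appLE _ _ (preimage_le _ _ (X.v_q k) U.1) b = 0) :
    ∃ (l : X.K) (h : k ≤ l), (X.m h).appLE _ _ (preimage_le _ _ (X.m_q h) U.1) b = 0 := by
  have e : X.v k ⁻¹ᵁ (X.q k ⁻¹ᵁ U.1) ≤ (X.emb ≫ X.f) ⁻¹ᵁ U.1 := by
    rw [← Scheme.Hom.comp_preimage, X.v_q]
  have h0 : (X.c.π.app (op k.1)).app (X.q k ⁻¹ᵁ U.1) b = 0 := by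
    have := congr(X.c.pt.presheaf.map (homOfLE e).op $hb)
    simp only [← CommRingCat.comp_apply, Scheme.Hom.appLE_map, map_zero] at this
    rw [Scheme.Hom.app_eq_appLE]
    exact this
  obtain ⟨j, φ, hj⟩ := exists_app_map_eq_zero_of_isLimit X.D X.c X.hc
    ((X.q k).isCompact_preimage U.2.isCompact) b h0
  refine ⟨⟨j.unop, k.2.trans (leOfHom φ.unop)⟩, leOfHom φ.unop, ?_⟩
  have := congr((X.D.obj j).presheaf.map (homOfLE (preimage_le _ _ (X.m_q
    (show k ≤ ⟨j.unop, k.2.trans (leOfHom φ.unop)⟩ from leOfHom φ.unop)) U.1)).op $hj)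
  rw [map_zero] at this
  exact this

/-- `S` is the limit of the approximating system. -/
theorem nonempty_isLimit_cS : Nonempty (IsLimit X.cS) := by
  haveI : ∀ (a b : X.Idxᵒᵖ) (g : a ⟶ b), IsAffineHom (X.DS.map g) := fun a b g =>
    inferInstanceAs (IsAffineHom (Idx.map g.unop.le))
  haveI : ∀ a, CompactSpace (X.DS.obj a) := fun a =>
    QuasiCompact.compactSpace_of_compactSpace a.unop.proj
  haveI : ∀ a, QuasiSeparatedSpace (X.DS.obj a) := fun a =>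
    quasiSeparatedSpace_of_quasiSeparated a.unop.proj
  obtain ⟨L, ⟨hL⟩⟩ := exists_isLimit_affine X.DS
  obtain ⟨a₀⟩ := (inferInstance : Nonempty X.Idx)
  let p : L.pt ⟶ Y := L.π.app (op a₀) ≫ a₀.proj
  have hp : ∀ a : X.Idx, L.π.app (op a) ≫ a.proj = p := fun a => by
    obtain ⟨b, hab, hab₀⟩ := exists_ge_ge a a₀
    have h1 := L.w (homOfLE hab).op
    have h2 := L.w (homOfLE hab₀).op
    simp only [p, ← h1, ← h2, Category.assoc]
    show L.π.app (op b) ≫ Idx.map hab ≫ a.proj = L.π.app (op b) ≫ Idx.map hab₀ ≫ a₀.proj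
    rw [Idx.map_proj, Idx.map_proj]
  haveI := isAffineHom_π_app X.DS L hL (op a₀)
  haveI : IsAffineHom p := MorphismProperty.comp_mem _ _ _
    (show IsAffineHom (L.π.app (op a₀)) from inferInstance) (show IsAffineHom a₀.proj from inferInstance)
  let γ : S ⟶ L.pt := hL.lift X.cS
  have hγπ : ∀ a : X.Idx, γ ≫ L.π.app (op a) = a.fromS := fun a => hL.fac X.cS (op a)
  have hγ : γ ≫ p = X.f := by
    rw [← Category.assoc, hγπ, Idx.fromS_proj]
  have hbij : ∀ U : Y.affineOpens, Function.Bijective (γ.appLE (p ⁻¹ᵁ U.1) (X.f ⁻¹ᵁ U.1) (preimage_le _ _ hγ _)) := by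
    intro U
    have hstage : ∀ (a : X.Idx) (z : Γ(a.spec, a.proj ⁻¹ᵁ U.1)),
        γ.appLE (p ⁻¹ᵁ U.1) (X.f ⁻¹ᵁ U.1) (preimage_le _ _ hγ _)
          ((L.π.app (op a)).appLE (a.proj ⁻¹ᵁ U.1) (p ⁻¹ᵁ U.1) (preimage_le _ _ (hp a) _) z) =
        pr₁ X.f (X.q a.i) U.1 (a.toSpec.appLE (a.proj ⁻¹ᵁ U.1) (X.F a.i ⁻¹ᵁ U.1)
          (preimage_le _ _ a.fgSub.toSpec_proj _) z) := fun a z =>
      (appLE_appLE_of_eq γ (L.π.app (op a)) a.fromS (hγπ a) _ _ (preimage_le _ _ a.fromS_proj _) z).trans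
        (appLE_appLE_of_eq (coprod.inl : S ⟶ S ⨿ X.E a.i) a.toSpec a.fromS rfl _ _
          (preimage_le _ _ a.fromS_proj _) z).symm
    refine ⟨(injective_iff_map_eq_zero _).2 fun y hy => ?_, fun s => ?_⟩
    · obtain ⟨j, φ, t, ht⟩ := exists_secπ_eq hL (U.2.preimage a₀.proj) (y : Γ(L.pt, L.π.app (op a₀) ⁻¹ᵁ (a₀.proj ⁻¹ᵁ U.1)))
      let a : X.Idx := j.unop
      have ha : a₀ ≤ a := leOfHom φ.unop
      let z : Γ(a.spec, a.proj ⁻¹ᵁ U.1) := a.spec.presheaf.map (homOfLE (preimage_le _ _ (Idx.map_proj ha) U.1)).op t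
      have hz : (L.π.app (op a)).appLE (a.proj ⁻¹ᵁ U.1) (p ⁻¹ᵁ U.1) (preimage_le _ _ (hp a) _) z = y := by
        rw [← ht]
        exact congr($(Scheme.Hom.map_appLE (L.π.app (op a)) (preimage_le _ _ (hp a) U.1)
          (homOfLE (preimage_le _ _ (Idx.map_proj ha) U.1)).op) t)
      let x := a.toSpec.appLE (a.proj ⁻¹ᵁ U.1) (X.F a.i ⁻¹ᵁ U.1) (preimage_le _ _ a.fgSub.toSpec_proj _) z
      have hx : x ∈ (X.P a.i).S U := a.good.le U ((a.fgSub.isSpec.range_eq U).le ⟨z, rfl⟩)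
      have hx₁ : pr₁ X.f (X.q a.i) U.1 x = 0 := by rw [← hstage, hz, hy]
      have hx₂ := (mem_pairs _ U x).1 hx
      rw [hx₁, map_zero] at hx₂
      obtain ⟨l, hl, hl0⟩ := X.exists_zero_stage a.i U _ hx₂.symm
      obtain ⟨K, hK, hle⟩ := a.exists_at hl
      let b : X.Idx := ⟨l, K, hK⟩
      let z' := (Idx.map hle).appLE (a.proj ⁻¹ᵁ U.1) (b.proj ⁻¹ᵁ U.1) (preimage_le _ _ (Idx.map_proj hle) _) z
      have hz' : z' = 0 := by
        apply b.fgSub.isSpec.injective U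
        rw [map_zero]
        have e : b.toSpec.appLE (b.proj ⁻¹ᵁ U.1) (X.F b.i ⁻¹ᵁ U.1) (preimage_le _ _ b.fgSub.toSpec_proj _) z' =
            X.hsec hle.1 U.1 x := by
          exact (appLE_appLE_of_eq _ _ _ (Idx.toSpec_map hle) _ _ (preimage_le _ _ (by
            rw [Category.assoc, FGSub.toSpec_proj, X.h_F]) _) z).trans
            (appLE_appLE_of_eq (X.h hle.1) a.toSpec _ rfl _ _ _ z).symm
        rw [e]
        refine (bijective_pr X.f (X.q b.i) U.1).1 (Prod.ext ?_ ?_)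
        · show pr₁ X.f (X.q b.i) U.1 _ = pr₁ X.f (X.q b.i) U.1 0
          rw [X.pr₁_hsec, hx₁, map_zero]
        · show pr₂ X.f (X.q b.i) U.1 _ = pr₂ X.f (X.q b.i) U.1 0
          rw [X.pr₂_hsec, map_zero]
          exact hl0
      rw [← hz, ← map_zero ((L.π.app (op b)).appLE (b.proj ⁻¹ᵁ U.1) (p ⁻¹ᵁ U.1) (preimage_le _ _ (hp b) _)).hom, ← hz']
      exact (appLE_appLE_of_eq (L.π.app (op b)) (Idx.map hle) (L.π.app (op a)) (L.w (homOfLE hle).op) _ _ _ z).symm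
    · obtain ⟨k, b, hb⟩ := X.exists_lift_section U (X.emb.appLE (X.f ⁻¹ᵁ U.1) ((X.emb ≫ X.f) ⁻¹ᵁ U.1) le_rfl s)
      obtain ⟨x, hx, hx₁, -⟩ := exists_mem_pairs (X.v_q k) U s b hb.symm
      obtain ⟨K, hK, hxK⟩ := X.exists_stage_mem k U x hx
      let a : X.Idx := ⟨k, K, hK⟩
      obtain ⟨z, hz⟩ := (a.fgSub.isSpec.range_eq U).ge hxK
      exact ⟨_, (hstage a z).trans ((congrArg _ hz).trans hx₁)⟩
  have : IsIso γ := by
    obtain ⟨_, hr⟩ := isOpenImmersion_of_bijective γ (fun U : Y.affineOpens => p ⁻¹ᵁ U.1) (W := ⊤)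
      (fun _ => trivial) (by rw [← Scheme.Hom.preimage_iSup, iSup_affineOpens_eq_top]; rfl)
      (fun U => U.2.preimage p) (fun U => by rw [← Scheme.Hom.comp_preimage, hγ]; exact U.2.preimage X.f) fun U => by
        have e : ∀ (O : S.Opens) (hO : O = γ ⁻¹ᵁ (p ⁻¹ᵁ U.1)),
            Function.Bijective (γ.appLE _ O hO.le) → Function.Bijective (γ.app (p ⁻¹ᵁ U.1)) := by
          rintro _ rfl h'
          rwa [Scheme.Hom.app_eq_appLE]
        exact e _ (by rw [← Scheme.Hom.comp_preimage, hγ]) (hbij U)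
    exact isIso_of_isOpenImmersion_of_opensRange_eq_top γ hr
  exact ⟨IsLimit.ofIsoLimit hL (Cone.ext (asIso γ) fun a => (hL.fac X.cS a).symm).symm⟩

end Setup

end Groth.Agent.H7Lim.Approx.RelOpen
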