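import Groth.Agent.H7Lim.Approx.RelOpen.Limit
import Groth.Agent.H7Lim.Approx.AbsoluteMain
import Groth.Agent.H7Lim.Approx.Pair

/-!
# Noetherian approximation relative to a quasi-compact open
-/

set_option autoImplicit false
set_option backward.isDefEq.respectTransparency false
set_option linter.style.haveILetI false
set_option linter.unusedSectionVars false

universe u

open AlgebraicGeometry CategoryTheory CategoryTheory.Limits Opposite TopologicalSpace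
open AlgebraicGeometry.Scheme

namespace Groth.Agent.H7Lim.Approx.RelOpen

/-- An affine morphism to a scheme of finite type over `ℤ` with a given quasi-compact open as preimage. -/
theorem exists_affineHom_preimage (S : Scheme.{u}) [CompactSpace S] [QuasiSeparatedSpace S]
    (V : S.Opens) (hV : IsCompact (V : Set S)) :
    ∃ (Y : Scheme.{u}) (f : S ⟶ Y) (W : Y.Opens), IsAffineHom f ∧ CompactSpace Y ∧
      LocallyOfFiniteType (toZ Y) ∧ IsCompact (W : Set Y) ∧ f ⁻¹ᵁ W = V := by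
  obtain ⟨Y, g, hg, hY, hYt⟩ := exists_affineHom_finiteType S
  haveI := quasiSeparatedSpace_of_toZ Y
  obtain ⟨hc⟩ := nonempty_isLimit_sysCone g
  haveI : ∀ i, CompactSpace ((sys g).obj i) := fun i ↦ inferInstanceAs (CompactSpace i.unop.spec)
  haveI : ∀ i, QuasiSeparatedSpace ((sys g).obj i) := fun i ↦
    inferInstanceAs (QuasiSeparatedSpace i.unop.spec)
  haveI : ∀ (i j : (FGSub g)ᵒᵖ) (a : i ⟶ j), IsAffineHom ((sys g).map a) := fun i j a ↦
    inferInstanceAs (IsAffineHom ((system g).map a).left)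
  obtain ⟨k, -, W, hW, hWc, hWV⟩ := exists_isCompact_isOpen_preimage_eq hc
    (op (Classical.arbitrary (FGSub g))) (U := (V : Set S)) V.2 hV
  refine ⟨k.unop.spec, k.unop.toSpec, ⟨W, hW⟩, ?_, inferInstance, ?_, hWc, Opens.ext hWV⟩
  · haveI : IsAffineHom (k.unop.toSpec ≫ k.unop.proj) := by rw [k.unop.toSpec_proj]; infer_instance
    exact MorphismProperty.of_postcomp @IsAffineHom k.unop.toSpec k.unop.proj
      (show IsSeparated k.unop.proj from inferInstance) ‹_›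
  · rw [← toZ_eq (k.unop.proj ≫ toZ Y)]; infer_instance

/-- The data of an approximation relative to an open. -/
theorem exists_setup (S : Scheme.{u}) [CompactSpace S] [QuasiSeparatedSpace S]
    (V : S.Opens) (hV : IsCompact (V : Set S)) (I : Type u) [Preorder I] [IsDirected I (fun a b => a ≤ b)]
    [Nonempty I] (D : Iᵒᵖ ⥤ Scheme.{u}) (haff : ∀ (i i' : Iᵒᵖ) (a : i ⟶ i'), IsAffineHom (D.map a))
    (hcpt : ∀ i, CompactSpace (D.obj i)) (hft : ∀ i, LocallyOfFiniteType (toZ (D.obj i)))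
    (c : Cone D) (hc : IsLimit c) (e : c.pt ≅ (V : Scheme.{u})) :
    ∃ (Y : Scheme.{u}) (_ : CompactSpace Y) (_ : LocallyOfFiniteType (toZ Y)) (X : Setup S Y I),
      X.D = D ∧ HEq X.c c ∧ X.f ⁻¹ᵁ X.W = V ∧ HEq X.emb (e.hom ≫ V.ι) := by
  obtain ⟨Y, f, W, hf, hY, hYt, hWc, hWV⟩ := exists_affineHom_preimage S V hV
  haveI := quasiSeparatedSpace_of_toZ Y
  haveI : ∀ i, QuasiSeparatedSpace (D.obj i) := fun i => quasiSeparatedSpace_of_toZ _
  haveI : CompactSpace V.toScheme := isCompact_iff_compactSpace.mp hV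
  haveI : CompactSpace c.pt := (Scheme.homeoOfIso e).symm.compactSpace
  haveI : LocallyOfFiniteType (toZ W.toScheme) := by rw [← comp_toZ W.ι]; infer_instance
  haveI := lfp_toZ W.toScheme
  let b : c.pt ⟶ W.toScheme := IsOpenImmersion.lift W.ι (e.hom ≫ V.ι ≫ f) (by
    rw [Scheme.Opens.range_ι]
    rintro _ ⟨x, rfl⟩
    exact hWV.ge (e.hom x).2)
  have hb : b ≫ W.ι = e.hom ≫ V.ι ≫ f := IsOpenImmersion.lift_fac _ _ _
  let t : D ⟶ (Functor.const _).obj (Spec (CommRingCat.of (ULift.{u} ℤ))) :=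
    { app := fun j ↦ toZ _
      naturality := fun _ _ _ ↦ specULiftZIsTerminal.hom_ext _ _ }
  obtain ⟨k, g, hg, -⟩ := Scheme.exists_π_app_comp_eq_of_locallyOfFinitePresentation D t
    (toZ W.toScheme) c hc b (by ext j; exact specULiftZIsTerminal.hom_ext _ _)
  obtain ⟨j, φ, hj⟩ := exists_affine_stage hc (g ≫ W.ι) W hWc (fun x => (g x).2) fun U hU => by
    rw [← Category.assoc, hg, hb, Scheme.Hom.comp_preimage, Scheme.Hom.comp_preimage]
    exact ((U.2.preimage f).preimage_of_isOpenImmersion V.ι (by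
      rw [Scheme.Opens.opensRange_ι, ← hWV]; exact f.preimage_mono hU)).preimage_of_isOpenImmersion e.hom
      (by rw [Scheme.Hom.opensRange_of_isIso]; exact le_top)
  refine ⟨Y, hY, hYt, {
    f := f, affine_f := hf, W := W, compact_W := hWc, D := D, affine_D := haff, compact_D := hcpt
    qs_D := inferInstance, ft_D := hft, c := c, hc := hc, compact_c := inferInstance
    emb := e.hom ≫ V.ι, open_emb := inferInstance
    hW := by rw [hWV, Scheme.Hom.opensRange_comp_of_isIso, Scheme.Opens.opensRange_ι]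
    i₁ := j.unop, q₀ := D.map φ ≫ g ≫ W.ι
    fac := by
      rw [← Category.assoc, show c.π.app (op j.unop) ≫ D.map φ = c.π.app k from c.w φ, ← Category.assoc, hg, hb,
        Category.assoc]
    mem := fun x => (g _).2
    aff := hj }, rfl, HEq.rfl, hWV, HEq.rfl⟩

variable {S Y : Scheme.{u}} [CompactSpace S] [QuasiSeparatedSpace S] [CompactSpace Y]
  [LocallyOfFiniteType (toZ Y)] {I : Type u} [Preorder I] [IsDirected I (fun a b => a ≤ b)] [Nonempty I]

/-- Approximation relative to an open. -/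
theorem exists_approximation [QuasiSeparatedSpace Y] (X : Setup S Y I) (V : S.Opens) (hWV : X.f ⁻¹ᵁ X.W = V)
    (e : X.c.pt ≅ (V : Scheme.{u})) (he : X.emb = e.hom ≫ V.ι) :
    ∃ (J : Type u) (_ : Preorder J) (_ : IsDirected J (fun a b => a ≤ b)) (_ : Nonempty J)
      (DS : Jᵒᵖ ⥤ Scheme.{u}) (cS : Cone DS) (_ : IsLimit cS) (eS : cS.pt ≅ S)
      (α : J →o I) (V' : ∀ j : J, (DS.obj (op j)).Opens)
      (φ : ∀ j : J, (V' j : Scheme.{u}) ≅ X.D.obj (op (α j))),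
      (∀ (j j' : Jᵒᵖ) (a : j ⟶ j'), IsAffineHom (DS.map a)) ∧
      (∀ j, CompactSpace (DS.obj j) ∧ LocallyOfFiniteType (toZ (DS.obj j))) ∧
      (∀ (j j' : J) (h : j' ≤ j), (DS.map (homOfLE h).op) ⁻¹ᵁ (V' j') = V' j) ∧
      (∀ j : J, (eS.inv ≫ cS.π.app (op j)) ⁻¹ᵁ (V' j) = V) ∧
      (∀ j : J, ∃ ρ : (V : Scheme.{u}) ⟶ (V' j : Scheme.{u}),
        ρ ≫ (V' j).ι = V.ι ≫ eS.inv ≫ cS.π.app (op j) ∧ ρ ≫ (φ j).hom = e.inv ≫ X.c.π.app (op (α j))) ∧
      (∀ (j j' : J) (h : j' ≤ j), ∃ τ : (V' j : Scheme.{u}) ⟶ (V' j' : Scheme.{u}),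
        τ ≫ (V' j').ι = (V' j).ι ≫ DS.map (homOfLE h).op ∧
        (φ j).hom ≫ X.D.map (homOfLE (α.mono h)).op = τ ≫ (φ j').hom) := by
  obtain ⟨hL⟩ := X.nonempty_isLimit_cS
  let α : X.Idx →o I := ⟨fun a => a.i.1, fun a b h => h.1⟩
  let V' : ∀ a : X.Idx, (X.DS.obj (op a)).Opens := fun a => a.proj ⁻¹ᵁ X.W
  let σ : ∀ a : X.Idx, X.E a.i ⟶ a.spec := fun a => coprod.inr ≫ a.toSpec
  have hσ : ∀ a, ∃ _ : IsOpenImmersion (σ a), (σ a).opensRange = a.proj ⁻¹ᵁ X.W := fun a =>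
    isOpenImmersion_inr_toSpec (X.v_q a.i) X.hW a.good a.fgSub.isSpec (X.q_mem a.i) (X.aff_q a.i)
  haveI : ∀ a, IsOpenImmersion (σ a) := fun a => (hσ a).1
  have hrange : ∀ a : X.Idx, Set.range (a.proj ⁻¹ᵁ X.W).ι = Set.range (σ a) := fun a => by
    obtain ⟨_, h⟩ := hσ a
    rw [Scheme.Opens.range_ι, ← h]; rfl
  let φ : ∀ a : X.Idx, (a.proj ⁻¹ᵁ X.W).toScheme ≅ X.E a.i := fun a =>
    IsOpenImmersion.isoOfRangeEq (a.proj ⁻¹ᵁ X.W).ι (σ a) (hrange a)
  have hφ : ∀ a, (φ a).hom ≫ σ a = (a.proj ⁻¹ᵁ X.W).ι := fun a => IsOpenImmersion.isoOfRangeEq_hom_fac _ _ _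
  have hv : ∀ a : X.Idx, X.emb ≫ a.fromS = X.v a.i ≫ σ a := fun a =>
    comp_toSpec_eq (X.v_q a.i) a.good.le a.fgSub.isSpec
  refine ⟨X.Idx, inferInstance, inferInstance, inferInstance, X.DS, X.cS, hL, Iso.refl _, α, V', φ,
    fun j j' a => inferInstanceAs (IsAffineHom (Setup.Idx.map a.unop.le)), fun a => ⟨?_, ?_⟩, fun j j' h => ?_,
    fun j => ?_, fun j => ?_, fun j j' h => ?_⟩
  · exact QuasiCompact.compactSpace_of_compactSpace a.unop.proj
  · show LocallyOfFiniteType (toZ a.unop.spec)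
    rw [← toZ_eq (a.unop.proj ≫ toZ Y)]; infer_instance
  · show Setup.Idx.map h ⁻¹ᵁ (j'.proj ⁻¹ᵁ X.W) = j.proj ⁻¹ᵁ X.W
    rw [← Scheme.Hom.comp_preimage, Setup.Idx.map_proj]
  · show (𝟙 S ≫ j.fromS) ⁻¹ᵁ (j.proj ⁻¹ᵁ X.W) = V
    rw [Category.id_comp, ← Scheme.Hom.comp_preimage, Setup.Idx.fromS_proj, hWV]
  · refine ⟨e.inv ≫ X.v j.i ≫ (φ j).inv, ?_, by simp only [Category.assoc, Iso.inv_hom_id, Category.comp_id]; rfl⟩
    have : (φ j).inv ≫ (V' j).ι = σ j := (Iso.inv_comp_eq _).2 (hφ j).symm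
    show (e.inv ≫ X.v j.i ≫ (φ j).inv) ≫ (V' j).ι = V.ι ≫ 𝟙 S ≫ j.fromS
    simp only [Category.assoc, Category.id_comp]
    rw [this, ← hv, he, Category.assoc, Iso.inv_hom_id_assoc]
  · refine ⟨(φ j).hom ≫ X.m h.1 ≫ (φ j').inv, ?_, by simp only [Category.assoc, Iso.inv_hom_id, Category.comp_id]; rfl⟩
    have h' : (φ j').inv ≫ (V' j').ι = σ j' := (Iso.inv_comp_eq _).2 (hφ j').symm
    show ((φ j).hom ≫ X.m h.1 ≫ (φ j').inv) ≫ (V' j').ι = (V' j).ι ≫ Setup.Idx.map h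
    rw [← hφ j]
    simp only [Category.assoc, σ] at h' ⊢
    rw [h', Setup.Idx.toSpec_map, coprod.inr_map_assoc]

end Groth.Agent.H7Lim.Approx.RelOpen
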