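import Groth.Agent.H7Lim.Approx.GlueRing

/-!
# Pairs of sections agreeing on a common open

For `f : S ⟶ Y`, `q : E ⟶ Y` and `u : V ⟶ S`, `v : V ⟶ E` over `Y`, the sections of `S ⨿ E`
which agree on `V` form a quasi-coherent subalgebra.
-/

set_option autoImplicit false
set_option backward.isDefEq.respectTransparency false
set_option linter.style.haveILetI false
set_option linter.unusedSectionVars false

universe u

open AlgebraicGeometry CategoryTheory CategoryTheory.Limits Opposite TopologicalSpace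
open AlgebraicGeometry.Scheme

namespace Groth.Agent.H7Lim.Approx.RelOpen

/-- Restricting to an equal open and back. -/
theorem map_map_of_eq {X : Scheme.{u}} {O O' : X.Opens} (h : O' ≤ O) (h' : O ≤ O') (z : Γ(X, O)) :
    X.presheaf.map (homOfLE h').op (X.presheaf.map (homOfLE h).op z) = z := by
  obtain rfl := le_antisymm h h'
  simp

/-- Sections on a disjoint union of two opens are pairs of sections. -/
theorem bijective_app_pair {A B X : Scheme.{u}} (ι₁ : A ⟶ X) (ι₂ : B ⟶ X) [IsOpenImmersion ι₁]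
    [IsOpenImmersion ι₂] (hc : IsCompl ι₁.opensRange ι₂.opensRange) (O : X.Opens) :
    Function.Bijective fun x : Γ(X, O) => ((ι₁.app O x, ι₂.app O x) : Γ(A, ι₁ ⁻¹ᵁ O) × Γ(B, ι₂ ⁻¹ᵁ O)) := by
  let R : Bool → X.Opens := fun t => O ⊓ if t then ι₁.opensRange else ι₂.opensRange
  have hcov : O ≤ ⨆ t, R t := by
    intro x hx
    have : x ∈ ι₁.opensRange ⊔ ι₂.opensRange := by rw [hc.sup_eq_top]; trivial
    rcases this with h | h
    · exact Opens.mem_iSup.mpr ⟨true, hx, h⟩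
    · exact Opens.mem_iSup.mpr ⟨false, hx, h⟩
  haveI h₁ := ι₁.isIso_app (R true) inf_le_right
  haveI h₂ := ι₂.isIso_app (R false) inf_le_right
  have e₁ : ι₁ ⁻¹ᵁ O ≤ ι₁ ⁻¹ᵁ R true := fun a ha => ⟨ha, a, rfl⟩
  have e₂ : ι₂ ⁻¹ᵁ O ≤ ι₂ ⁻¹ᵁ R false := fun a ha => ⟨ha, a, rfl⟩
  have n₁ : ∀ x, ι₁.app (R true) (X.presheaf.map (homOfLE inf_le_left).op x) =
      A.presheaf.map (homOfLE (ι₁.preimage_mono inf_le_left)).op (ι₁.app O x) := fun x =>
    congr($(ι₁.naturality (homOfLE (inf_le_left : R true ≤ O)).op) x)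
  have n₂ : ∀ x, ι₂.app (R false) (X.presheaf.map (homOfLE inf_le_left).op x) =
      B.presheaf.map (homOfLE (ι₂.preimage_mono inf_le_left)).op (ι₂.app O x) := fun x =>
    congr($(ι₂.naturality (homOfLE (inf_le_left : R false ≤ O)).op) x)
  constructor
  · intro x y h
    obtain ⟨ha, hb⟩ := Prod.mk.inj h
    refine X.sheaf.eq_of_locally_eq' R O (fun t => homOfLE inf_le_left) hcov x y fun t => ?_
    cases t
    · exact (ConcreteCategory.bijective_of_isIso (ι₂.app (R false))).1 (((n₂ x).trans (congrArg _ hb)).trans (n₂ y).symm)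
    · exact (ConcreteCategory.bijective_of_isIso (ι₁.app (R true))).1 (((n₁ x).trans (congrArg _ ha)).trans (n₁ y).symm)
  · rintro ⟨a, b⟩
    obtain ⟨x₁, hx₁⟩ := (ConcreteCategory.bijective_of_isIso (ι₁.app (R true))).2
      (A.presheaf.map (homOfLE (ι₁.preimage_mono inf_le_left)).op a)
    obtain ⟨x₂, hx₂⟩ := (ConcreteCategory.bijective_of_isIso (ι₂.app (R false))).2
      (B.presheaf.map (homOfLE (ι₂.preimage_mono inf_le_left)).op b)
    let sf : ∀ t, Γ(X, R t) := fun t => Bool.rec x₂ x₁ t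
    have hdis : R true ⊓ R false = ⊥ := by
      rw [← le_bot_iff, ← hc.inf_eq_bot]
      exact inf_le_inf inf_le_right inf_le_right
    have hcompat : TopCat.Presheaf.IsCompatible X.presheaf R sf := by
      intro s t
      have hss : ∀ {W : X.Opens}, W ≤ ⊥ → ∀ z w : Γ(X, W), z = w := fun hW z w =>
        X.sheaf.eq_of_locally_eq' (fun i : Empty => i.elim) _ (fun i => i.elim)
          (fun y hy => (hW hy).elim) z w fun i => i.elim
      cases s <;> cases t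
      · rfl
      · exact hss (by rw [inf_comm, hdis]) _ _
      · exact hss hdis.le _ _
      · rfl
    obtain ⟨x, hx, -⟩ := X.sheaf.existsUnique_gluing' R O (fun t => homOfLE inf_le_left) hcov sf hcompat
    have i₁ : ∀ z w : Γ(A, ι₁ ⁻¹ᵁ O), A.presheaf.map (homOfLE (ι₁.preimage_mono inf_le_left : ι₁ ⁻¹ᵁ R true ≤ _)).op z =
        A.presheaf.map (homOfLE (ι₁.preimage_mono inf_le_left : ι₁ ⁻¹ᵁ R true ≤ _)).op w → z = w := fun z w h => by
      exact (map_map_of_eq _ e₁ z).symm.trans ((congrArg (A.presheaf.map (homOfLE e₁).op) h).trans (map_map_of_eq _ e₁ w))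
    have i₂ : ∀ z w : Γ(B, ι₂ ⁻¹ᵁ O), B.presheaf.map (homOfLE (ι₂.preimage_mono inf_le_left : ι₂ ⁻¹ᵁ R false ≤ _)).op z =
        B.presheaf.map (homOfLE (ι₂.preimage_mono inf_le_left : ι₂ ⁻¹ᵁ R false ≤ _)).op w → z = w := fun z w h => by
      exact (map_map_of_eq _ e₂ z).symm.trans ((congrArg (B.presheaf.map (homOfLE e₂).op) h).trans (map_map_of_eq _ e₂ w))
    exact ⟨x, Prod.ext (i₁ _ _ ((n₁ x).symm.trans ((congrArg _ (hx true)).trans hx₁)))
      (i₂ _ _ ((n₂ x).symm.trans ((congrArg _ (hx false)).trans hx₂)))⟩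

/-- A morphism is an isomorphism over an affine open with affine preimage if it is so on sections. -/
theorem isIso_restrict_of_bijective {T P : Scheme.{u}} (σ : T ⟶ P) {A : P.Opens} (hA : IsAffineOpen A)
    (hσA : IsAffineOpen (σ ⁻¹ᵁ A)) (h : Function.Bijective (σ.app A)) : IsIso (σ ∣_ A) := by
  haveI : IsAffine A.toScheme := hA
  haveI : IsAffine (σ ⁻¹ᵁ A).toScheme := hσA
  refine isIso_of_appTop_bijective _ ?_
  have happ : ∀ A' : P.Opens, A' = A → Function.Bijective (σ.app A') := by rintro _ rfl; exact h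
  rw [morphismRestrict_appTop]
  exact bijective_comp _ _ (happ _ (Scheme.Opens.ι_image_top A)) (ConcreteCategory.bijective_of_isIso _)

/-- A morphism which is bijective on sections over affine opens covering its image. -/
theorem isOpenImmersion_of_bijective {T P : Scheme.{u}} (σ : T ⟶ P) {ι : Type*} (A : ι → P.Opens)
    {W : P.Opens} (hW : ∀ x, σ x ∈ W) (hWA : W = ⨆ i, A i) (hA : ∀ i, IsAffineOpen (A i))
    (hσA : ∀ i, IsAffineOpen (σ ⁻¹ᵁ A i)) (h : ∀ i, Function.Bijective (σ.app (A i))) :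
    ∃ _ : IsOpenImmersion σ, σ.opensRange = W :=
  isOpenImmersion_of_isIso_restrict σ A hW hWA fun i => isIso_restrict_of_bijective σ (hA i) (hσA i) (h i)

/-- Sections on which two morphisms agree. -/
def eqz {X Y V : Scheme.{u}} (F : X ⟶ Y) [QuasiCompact F] [QuasiSeparated F] {g : V ⟶ Y}
    [QuasiCompact g] [QuasiSeparated g] {k₁ k₂ : V ⟶ X} (h₁ : k₁ ≫ F = g) (h₂ : k₂ ≫ F = g) : Sub F where
  S U := RingHom.eqLocus (k₁.appLE (F ⁻¹ᵁ U.1) (g ⁻¹ᵁ U.1) (preimage_le F g h₁ _)).hom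
    (k₂.appLE (F ⁻¹ᵁ U.1) (g ⁻¹ᵁ U.1) (preimage_le F g h₂ _)).hom
  app_mem U s := by
    show (F.app U.1 ≫ k₁.appLE _ (g ⁻¹ᵁ U.1) _) s = (F.app U.1 ≫ k₂.appLE _ (g ⁻¹ᵁ U.1) _) s
    simp only [Scheme.Hom.app_eq_appLE, Scheme.Hom.appLE_comp_appLE, h₁, h₂]
  res_mem U r x hx := by
    have e : ∀ (k : V ⟶ X) (hk : k ≫ F = g),
        k.appLE (F ⁻¹ᵁ Y.basicOpen r) (g ⁻¹ᵁ Y.basicOpen r) (preimage_le F g hk _) (rX F (Y.basicOpen_le r) x) =
          rX g (Y.basicOpen_le r) (k.appLE (F ⁻¹ᵁ U.1) (g ⁻¹ᵁ U.1) (preimage_le F g hk _) x) := fun k hk => by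
      simp only [rX, ← CommRingCat.comp_apply, Scheme.Hom.appLE_map, Scheme.Hom.map_appLE]
    exact (e k₁ h₁).trans ((congrArg _ hx).trans (e k₂ h₂).symm)
  exists_mul U r x hx := by
    obtain ⟨n, a, -, ha⟩ := (Sub.top F).exists_mul U r x (Subring.mem_top _)
    let κ := fun (k : V ⟶ X) (hk : k ≫ F = g) (W : Y.Opens) =>
      k.appLE (F ⁻¹ᵁ W) (g ⁻¹ᵁ W) (preimage_le F g hk _)
    have e : ∀ (k : V ⟶ X) (hk : k ≫ F = g) y, κ k hk (Y.basicOpen r) (rX F (Y.basicOpen_le r) y) =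
        rX g (Y.basicOpen_le r) (κ k hk U.1 y) := fun k hk y => by
      simp only [κ, rX, ← CommRingCat.comp_apply, Scheme.Hom.appLE_map, Scheme.Hom.map_appLE]
    have es : ∀ (k : V ⟶ X) (hk : k ≫ F = g) s, κ k hk U.1 (F.app U.1 s) = g.app U.1 s := fun k hk s => by
      simp only [κ, Scheme.Hom.app_eq_appLE, ← CommRingCat.comp_apply, Scheme.Hom.appLE_comp_appLE, hk]
    have : rX g (Y.basicOpen_le r) (κ k₁ h₁ U.1 a) = rX g (Y.basicOpen_le r) (κ k₂ h₂ U.1 a) := by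
      rw [← e k₁ h₁, ← e k₂ h₂, ha, map_mul, map_mul, e k₁ h₁, e k₂ h₂]
      simp only [map_pow, es k₁ h₁, es k₂ h₂]
      exact congrArg (· * _) hx
    obtain ⟨m, hm⟩ := exists_pow_mul_eq g U r this
    refine ⟨m + n, F.app U.1 r ^ m * a, ?_, ?_⟩
    · show κ k₁ h₁ U.1 _ = κ k₂ h₂ U.1 _
      rw [map_mul, map_mul, map_pow, map_pow, es k₁ h₁, es k₂ h₂, hm]
    · rw [map_mul, ha, pow_add, map_mul]; ring

variable {S E V Y : Scheme.{u}} (f : S ⟶ Y) (q : E ⟶ Y)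

/-- The structure map of the disjoint union. -/
noncomputable abbrev glue : S ⨿ E ⟶ Y := coprod.desc f q

/-- The first component of a section. -/
noncomputable abbrev pr₁ (U : Y.Opens) : Γ(S ⨿ E, glue f q ⁻¹ᵁ U) ⟶ Γ(S, f ⁻¹ᵁ U) :=
  (coprod.inl : S ⟶ S ⨿ E).appLE _ _ (preimage_le _ f (coprod.inl_desc f q) U)

/-- The second component of a section. -/
noncomputable abbrev pr₂ (U : Y.Opens) : Γ(S ⨿ E, glue f q ⁻¹ᵁ U) ⟶ Γ(E, q ⁻¹ᵁ U) :=
  (coprod.inr : E ⟶ S ⨿ E).appLE _ _ (preimage_le _ q (coprod.inr_desc f q) U)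

theorem bijective_pr (U : Y.Opens) :
    Function.Bijective fun x => (pr₁ f q U x, pr₂ f q U x) := by
  have key : ∀ (O₁ : S.Opens) (O₂ : E.Opens) (h₁ : O₁ = (coprod.inl : S ⟶ S ⨿ E) ⁻¹ᵁ (glue f q ⁻¹ᵁ U))
      (h₂ : O₂ = (coprod.inr : E ⟶ S ⨿ E) ⁻¹ᵁ (glue f q ⁻¹ᵁ U)),
      Function.Bijective fun x => ((coprod.inl : S ⟶ S ⨿ E).appLE _ O₁ h₁.le x,
        (coprod.inr : E ⟶ S ⨿ E).appLE _ O₂ h₂.le x) := by
    rintro _ _ rfl rfl
    simp only [← Scheme.Hom.app_eq_appLE]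
    exact bijective_app_pair _ _ (isCompl_opensRange_inl_inr S E) _
  exact key _ _ (by rw [← Scheme.Hom.comp_preimage, coprod.inl_desc])
    (by rw [← Scheme.Hom.comp_preimage, coprod.inr_desc])

theorem rX_pr₁ {U U' : Y.Opens} (h : U ≤ U') (x) : pr₁ f q U (rX (glue f q) h x) = rX f h (pr₁ f q U' x) := by
  simp only [rX, ← CommRingCat.comp_apply, Scheme.Hom.appLE_map, Scheme.Hom.map_appLE]

theorem rX_pr₂ {U U' : Y.Opens} (h : U ≤ U') (x) : pr₂ f q U (rX (glue f q) h x) = rX q h (pr₂ f q U' x) := by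
  simp only [rX, ← CommRingCat.comp_apply, Scheme.Hom.appLE_map, Scheme.Hom.map_appLE]

variable (u : V ⟶ S) (v : V ⟶ E) (w : v ≫ q = u ≫ f)
  [QuasiCompact (glue f q)] [QuasiSeparated (glue f q)] [QuasiCompact (u ≫ f)] [QuasiSeparated (u ≫ f)]

/-- Pairs of sections agreeing on `V`. -/
noncomputable def pairs : Sub (glue f q) :=
  eqz (glue f q) (k₁ := u ≫ coprod.inl) (k₂ := v ≫ coprod.inr) (g := u ≫ f)
    (by rw [Category.assoc, coprod.inl_desc]) (by rw [Category.assoc, coprod.inr_desc, w])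

variable {f q u v}

theorem mem_pairs (U : Y.affineOpens) (x : Γ(S ⨿ E, glue f q ⁻¹ᵁ U.1)) :
    x ∈ (pairs f q u v w).S U ↔
      u.appLE (f ⁻¹ᵁ U.1) ((u ≫ f) ⁻¹ᵁ U.1) le_rfl (pr₁ f q U.1 x) =
        v.appLE (q ⁻¹ᵁ U.1) ((u ≫ f) ⁻¹ᵁ U.1) (preimage_le q _ w _) (pr₂ f q U.1 x) := by
  simp only [← CommRingCat.comp_apply, Scheme.Hom.appLE_comp_appLE]
  rfl

theorem exists_mem_pairs (U : Y.affineOpens) (a : Γ(S, f ⁻¹ᵁ U.1)) (b : Γ(E, q ⁻¹ᵁ U.1))
    (h : u.appLE (f ⁻¹ᵁ U.1) ((u ≫ f) ⁻¹ᵁ U.1) le_rfl a =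
      v.appLE (q ⁻¹ᵁ U.1) ((u ≫ f) ⁻¹ᵁ U.1) (preimage_le q _ w _) b) :
    ∃ x ∈ (pairs f q u v w).S U, pr₁ f q U.1 x = a ∧ pr₂ f q U.1 x = b := by
  obtain ⟨x, hx⟩ := (bijective_pr f q U.1).2 (a, b)
  obtain ⟨h1, h2⟩ := Prod.mk.inj hx
  exact ⟨x, (mem_pairs w U x).2 (by rw [h1, h2, h]), h1, h2⟩

variable [IsOpenImmersion u] {W : Y.Opens} (hW : f ⁻¹ᵁ W ≤ u.opensRange)
include hW

theorem bijective_appLE_fst {U : Y.Opens} (hU : U ≤ W) :
    Function.Bijective (u.appLE (f ⁻¹ᵁ U) ((u ≫ f) ⁻¹ᵁ U) le_rfl) := by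
  haveI := u.isIso_app (f ⁻¹ᵁ U) ((f.preimage_mono hU).trans hW)
  rw [show u.appLE (f ⁻¹ᵁ U) ((u ≫ f) ⁻¹ᵁ U) le_rfl = u.app (f ⁻¹ᵁ U) from u.appLE_eq_app]
  exact ConcreteCategory.bijective_of_isIso _

theorem bijective_pr₂ {U : Y.affineOpens} (hU : U.1 ≤ W) :
    Function.Bijective fun x : (pairs f q u v w).S U => pr₂ f q U.1 x.1 := by
  constructor
  · intro x y h
    refine Subtype.ext ((bijective_pr f q U.1).1 (Prod.ext ((bijective_appLE_fst hW hU).1 ?_) h))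
    rw [(mem_pairs w U _).1 x.2, (mem_pairs w U _).1 y.2]
    exact congrArg _ h
  · intro b
    obtain ⟨a, ha⟩ := (bijective_appLE_fst hW hU).2
      (v.appLE (q ⁻¹ᵁ U.1) ((u ≫ f) ⁻¹ᵁ U.1) (preimage_le q _ w _) b)
    obtain ⟨x, hx, -, hb⟩ := exists_mem_pairs w U a b ha
    exact ⟨⟨x, hx⟩, hb⟩

theorem fgAt_pairs [LocallyOfFiniteType q] {U : Y.affineOpens} (hU : U.1 ≤ W) (haff : IsAffineOpen (q ⁻¹ᵁ U.1)) :
    (pairs f q u v w).FGAt U := by
  classical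
  have hq := HasRingHomProperty.appLE (P := @LocallyOfFiniteType) q inferInstance U ⟨_, haff⟩ le_rfl
  letI := (q.appLE U.1 (q ⁻¹ᵁ U.1) le_rfl).hom.toAlgebra
  haveI : Algebra.FiniteType Γ(Y, U.1) Γ(E, q ⁻¹ᵁ U.1) := hq
  obtain ⟨G, hG⟩ := Algebra.FiniteType.out (R := Γ(Y, U.1)) (A := Γ(E, q ⁻¹ᵁ U.1))
  choose x hx using fun b => (bijective_pr₂ w hW hU).2 b
  let t : Finset Γ(S ⨿ E, glue f q ⁻¹ᵁ U.1) := G.image fun b => (x b).1
  have ht : (t : Set Γ(S ⨿ E, glue f q ⁻¹ᵁ U.1)) ⊆ (pairs f q u v w).S U := by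
    intro z hz
    obtain ⟨b, -, rfl⟩ := Finset.mem_image.mp hz
    exact (x b).2
  have hgen : gen (glue f q) U.1 t U.1 le_rfl ≤ (pairs f q u v w).S U := by
    rw [gen, Subring.closure_le]
    rintro _ (⟨s, rfl⟩ | ⟨z, hz, rfl⟩)
    · exact (pairs f q u v w).app_mem U s
    · rw [rX_refl]; exact ht hz
  refine ⟨t, ht, fun z hz => ?_⟩
  have key : ∀ c : Γ(E, q ⁻¹ᵁ U.1), c ∈ Algebra.adjoin Γ(Y, U.1) (G : Set Γ(E, q ⁻¹ᵁ U.1)) →
      c ∈ (gen (glue f q) U.1 t U.1 le_rfl).map (pr₂ f q U.1).hom := fun c hc => by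
    induction hc using Algebra.adjoin_induction with
    | mem b hb =>
      have hm := rX_mem_gen (f := glue f q) (le_refl U.1)
        (t := (t : Set _)) (Finset.mem_image_of_mem (fun b => (x b).1) hb)
      rw [rX_refl] at hm
      exact ⟨(x b).1, hm, hx b⟩
    | algebraMap s =>
      refine ⟨(glue f q).app U.1 s, app_mem_gen _ _, ?_⟩
      simp only [RingHom.algebraMap_toAlgebra, Scheme.Hom.app_eq_appLE, ← CommRingCat.comp_apply,
        Scheme.Hom.appLE_comp_appLE, coprod.inr_desc]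
    | add _ _ _ _ h h' => exact add_mem h h'
    | mul _ _ _ _ h h' => exact mul_mem h h'
  obtain ⟨z', hz', e⟩ := key (pr₂ f q U.1 z) (hG ▸ trivial)
  have he : z' = z := Subtype.ext_iff.1 ((bijective_pr₂ w hW hU).1 (a₁ := ⟨z', hgen hz'⟩) (a₂ := ⟨z, hz⟩) e)
  exact he ▸ hz'

omit hW

variable (W) in
/-- Finite type subalgebras of pairs which contain all pairs over `W`. -/
structure IsGood (J : Sub (glue f q)) : Prop where
  fg : ∀ U, J.FGAt U
  le : J ≤ pairs f q u v w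
  eq : ∀ U : Y.affineOpens, U.1 ≤ W → J.S U = (pairs f q u v w).S U

theorem IsGood.sup {J K : Sub (glue f q)} (hJ : IsGood w W J) (hK : IsGood w W K) :
    IsGood w W (J.sup K) where
  fg U := Sub.sup_fgAt (hJ.fg U) (hK.fg U)
  le U := sup_le (hJ.le U) (hK.le U)
  eq U hU := by show J.S U ⊔ K.S U = _; rw [hJ.eq U hU, hK.eq U hU, sup_idem]

variable [CompactSpace Y] [QuasiSeparatedSpace Y] [LocallyOfFiniteType q]

include hW in
theorem exists_good (hWc : IsCompact (W : Set Y))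
    (haff : ∀ U : Y.affineOpens, U.1 ≤ W → IsAffineOpen (q ⁻¹ᵁ U.1))
    (U : Y.affineOpens) (s : Finset Γ(S ⨿ E, glue f q ⁻¹ᵁ U.1))
    (hs : (s : Set Γ(S ⨿ E, glue f q ⁻¹ᵁ U.1)) ⊆ (pairs f q u v w).S U) :
    ∃ J, IsGood w W J ∧ (s : Set Γ(S ⨿ E, glue f q ⁻¹ᵁ U.1)) ⊆ J.S U := by
  classical
  obtain ⟨J₀, hJ₀, heq₀, hfg₀, hs₀⟩ := (pairs f q u v w).exists_step W hWc
    (fun A hA => fgAt_pairs w hW hA (haff A hA)) U s hs
  suffices ∀ T : Finset Y.affineOpens, ∃ J' ≤ J₀, (∀ A : Y.affineOpens, A.1 ≤ W → J'.S A = J₀.S A) ∧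
      (∀ A : Y.affineOpens, A.1 ≤ (W ⊔ U.1) ⊔ T.sup (fun V => V.1) → J'.FGAt A) ∧
      (s : Set Γ(S ⨿ E, glue f q ⁻¹ᵁ U.1)) ⊆ J'.S U by
    obtain ⟨T, hT, hTeq⟩ := isCompact_iff_finite_and_eq_biUnion_affineOpens.1
      (show IsCompact ((⊤ : Y.Opens) : Set Y) from isCompact_univ)
    obtain ⟨J', hJ', heq, hfg, hsJ⟩ := this hT.toFinset
    refine ⟨J', ⟨fun A => hfg A (le_top.trans (le_sup_of_le_right ?_)), hJ'.trans hJ₀,
      fun A hA => (heq A hA).trans (heq₀ A hA)⟩, hsJ⟩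
    rw [hTeq]
    exact iSup₂_le fun V hV => Finset.le_sup (f := fun V : Y.affineOpens => V.1) (hT.mem_toFinset.2 hV)
  intro T
  induction T using Finset.induction with
  | empty => exact ⟨J₀, le_rfl, fun _ _ => rfl, by simpa using hfg₀, hs₀⟩
  | @insert A T _ ih =>
    obtain ⟨J₁, hJ₁, heq₁, hfg, hsJ⟩ := ih
    have hc : IsCompact ((W ⊔ U.1 ⊔ T.sup (fun V => V.1) : Y.Opens) : Set Y) := by
      simp only [Opens.coe_sup, Finset.sup_eq_iSup, Opens.coe_iSup]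
      exact (hWc.union U.2.isCompact).union (T.finite_toSet.isCompact_biUnion fun V _ => V.2.isCompact)
    obtain ⟨J', hJ', heq, hfg', -⟩ := J₁.exists_step _ hc hfg A ∅ (by simp)
    refine ⟨J', hJ'.trans hJ₁, fun B hB => (heq B (hB.trans (le_sup_left.trans le_sup_left))).trans (heq₁ B hB),
      fun B hB => hfg' B (hB.trans ?_), ?_⟩
    · rw [Finset.sup_insert]
      exact le_of_eq (by rw [sup_comm A.1, sup_assoc (W ⊔ U.1)])
    · rw [heq U (le_sup_right.trans le_sup_left)]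
      exact hsJ

include hW in
theorem exists_good_family (hWc : IsCompact (W : Set Y))
    (haff : ∀ U : Y.affineOpens, U.1 ≤ W → IsAffineOpen (q ⁻¹ᵁ U.1)) {ι : Type*} (T : Finset ι)
    (U : ι → Y.affineOpens) (s : ∀ i, Finset Γ(S ⨿ E, glue f q ⁻¹ᵁ (U i).1))
    (hs : ∀ i, (s i : Set Γ(S ⨿ E, glue f q ⁻¹ᵁ (U i).1)) ⊆ (pairs f q u v w).S (U i)) :
    ∃ J, IsGood w W J ∧ ∀ i ∈ T, (s i : Set Γ(S ⨿ E, glue f q ⁻¹ᵁ (U i).1)) ⊆ J.S (U i) := by
  classical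
  induction T using Finset.induction with
  | empty =>
    obtain ⟨T, hT, -⟩ := isCompact_iff_finite_and_eq_biUnion_affineOpens.1
      (show IsCompact ((⊥ : Y.Opens) : Set Y) by simp)
    obtain ⟨J, hJ, -⟩ := exists_good w hW hWc haff ⟨⊥, isAffineOpen_bot Y⟩ ∅ (by simp)
    exact ⟨J, hJ, by simp⟩
  | @insert i T _ ih =>
    obtain ⟨J, hJ, hJT⟩ := ih
    obtain ⟨K, hK, hKi⟩ := exists_good w hW hWc haff (U i) (s i) (hs i)
    refine ⟨J.sup K, hJ.sup w hK, fun j hj => ?_⟩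
    rcases Finset.mem_insert.mp hj with rfl | hj
    · exact fun x hx => Sub.le_sup_right' J K (U j) (hKi hx)
    · exact fun x hx => Sub.le_sup_left' J K (U j) (hJT j hj hx)

omit [CompactSpace Y] [QuasiSeparatedSpace Y] [LocallyOfFiniteType q] in
/-- The two maps from `V` to the spectrum of pairs agree. -/
theorem comp_toSpec_eq {J : Sub (glue f q)} (hJ : J ≤ pairs f q u v w) {P : Scheme.{u}} {p : P ⟶ Y}
    {a : S ⨿ E ⟶ P} (h : J.IsSpec p a) : u ≫ coprod.inl ≫ a = v ≫ coprod.inr ≫ a := by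
  haveI := h.isAffineHom
  refine hom_ext_app p (u ≫ f) (by simp [Category.assoc, h.fac]) (by simp [Category.assoc, h.fac, w]) fun U => ?_
  ext z
  have hz : a.appLE (p ⁻¹ᵁ U.1) (glue f q ⁻¹ᵁ U.1) (preimage_le p _ h.fac _) z ∈ (pairs f q u v w).S U :=
    hJ U ((h.range_eq U).le ⟨z, rfl⟩)
  have := (mem_pairs w U _).1 hz
  simp only [← CommRingCat.comp_apply, Scheme.Hom.appLE_comp_appLE] at this ⊢
  simpa only [Category.assoc] using this

omit [CompactSpace Y] [QuasiSeparatedSpace Y] [LocallyOfFiniteType q] in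
include hW in
/-- Over `W` the spectrum of a good subalgebra is `E`. -/
theorem isOpenImmersion_inr_toSpec {J : Sub (glue f q)} (hJ : IsGood w W J) {P : Scheme.{u}} {p : P ⟶ Y}
    {a : S ⨿ E ⟶ P} (h : J.IsSpec p a) (hqW : ∀ e, q e ∈ W)
    (haff : ∀ U : Y.affineOpens, U.1 ≤ W → IsAffineOpen (q ⁻¹ᵁ U.1)) :
    ∃ _ : IsOpenImmersion (coprod.inr ≫ a), (coprod.inr ≫ a).opensRange = p ⁻¹ᵁ W := by
  haveI := h.isAffineHom
  have hσ : (coprod.inr ≫ a) ≫ p = q := by rw [Category.assoc, h.fac, coprod.inr_desc]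
  have hpre : ∀ U : Y.Opens, (coprod.inr ≫ a) ⁻¹ᵁ (p ⁻¹ᵁ U) = q ⁻¹ᵁ U := fun U => by
    rw [← Scheme.Hom.comp_preimage, hσ]
  refine isOpenImmersion_of_bijective _ (fun U : {U : Y.affineOpens // U.1 ≤ W} => p ⁻¹ᵁ U.1.1)
    (fun e => show ((coprod.inr ≫ a) ≫ p) e ∈ W by rw [hσ]; exact hqW e) ?_ (fun U => U.1.2.preimage p)
    (fun U => by rw [hpre]; exact haff U.1 U.2) fun U => ?_
  · rw [← Scheme.Hom.preimage_iSup]
    congr 1
    refine le_antisymm (fun y hy => ?_) (iSup_le fun U => U.2)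
    obtain ⟨U, hU, hyU, hUW⟩ := exists_isAffineOpen_mem_and_subset (x := y) (U := W) hy
    exact Opens.mem_iSup.mpr ⟨⟨⟨U, hU⟩, hUW⟩, hyU⟩
  · let α := a.appLE (p ⁻¹ᵁ U.1.1) (glue f q ⁻¹ᵁ U.1.1) (preimage_le p _ h.fac _)
    have hα : ∀ z, α z ∈ (pairs f q u v w).S U.1 := fun z => hJ.le U.1 ((h.range_eq U.1).le ⟨z, rfl⟩)
    have hb : Function.Bijective fun z => pr₂ f q U.1.1 (α z) := by
      refine ⟨fun z z' e => h.injective U.1 (Subtype.ext_iff.1 ((bijective_pr₂ w hW U.2).1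
        (a₁ := ⟨α z, hα z⟩) (a₂ := ⟨α z', hα z'⟩) e)), fun b => ?_⟩
      obtain ⟨x, hx⟩ := (bijective_pr₂ w hW U.2).2 b
      obtain ⟨z, hz⟩ := (h.range_eq U.1).ge (show x.1 ∈ J.S U.1 by rw [hJ.eq U.1 U.2]; exact x.2)
      exact ⟨z, (congrArg _ hz).trans hx⟩
    have e : ∀ (O : E.Opens) (hO : O = (coprod.inr ≫ a) ⁻¹ᵁ (p ⁻¹ᵁ U.1.1)),
        Function.Bijective ((coprod.inr ≫ a).appLE _ O hO.le) → Function.Bijective ((coprod.inr ≫ a).app (p ⁻¹ᵁ U.1.1)) := by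
      rintro _ rfl h'
      rwa [Scheme.Hom.app_eq_appLE]
    refine e _ (hpre _).symm ?_
    convert hb using 1
    funext z
    simp only [α, ← CommRingCat.comp_apply, Scheme.Hom.appLE_comp_appLE]

end Groth.Agent.H7Lim.Approx.RelOpen
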