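import Groth.Agent.H7Lim.Approx.RelOpen.Pairs

/-!
# The stages of approximation relative to an open
-/

set_option autoImplicit false
set_option backward.isDefEq.respectTransparency false
set_option linter.style.haveILetI false
set_option linter.unusedSectionVars false

universe u

open AlgebraicGeometry CategoryTheory CategoryTheory.Limits Opposite TopologicalSpace
open AlgebraicGeometry.Scheme

namespace Groth.Agent.H7Lim.Approx.RelOpen

instance compactSpace_coprod {A B : Scheme.{u}} [CompactSpace A] [CompactSpace B] :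
    CompactSpace (A ⨿ B : Scheme.{u}) := (coprodMk A B).compactSpace

instance quasiSeparatedSpace_coprod {A B : Scheme.{u}} [QuasiSeparatedSpace A] [QuasiSeparatedSpace B] :
    QuasiSeparatedSpace (A ⨿ B : Scheme.{u}) := by
  refine ⟨fun U V hU hUc hV hVc => ?_⟩
  have hc := isCompl_range_inl_inr A B
  have key : ∀ (Z : Scheme.{u}) (ι : Z ⟶ A ⨿ B) [IsOpenImmersion ι], IsClosed (Set.range ι) →
      QuasiSeparatedSpace Z → IsCompact (ι '' (ι ⁻¹' U ∩ ι ⁻¹' V)) := by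
    intro Z ι _ hcl hZ
    have hp : ∀ T : Set (A ⨿ B : Scheme.{u}), IsCompact T → IsCompact (ι ⁻¹' T) := fun T hT =>
      (ι.isOpenEmbedding.toIsEmbedding.toHomeomorph).isClosedEmbedding.isCompact_preimage
        (K := Subtype.val ⁻¹' T) (hcl.isClosedEmbedding_subtypeVal.isCompact_preimage hT)
    exact (hZ.inter_isCompact _ _ (hU.preimage ι.continuous) (hp U hUc) (hV.preimage ι.continuous) (hp V hVc)).image
      ι.continuous
  have e : U ∩ V = (coprod.inl : A ⟶ A ⨿ B) '' ((coprod.inl : A ⟶ A ⨿ B) ⁻¹' U ∩ (coprod.inl : A ⟶ A ⨿ B) ⁻¹' V) ∪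
      (coprod.inr : B ⟶ A ⨿ B) '' ((coprod.inr : B ⟶ A ⨿ B) ⁻¹' U ∩ (coprod.inr : B ⟶ A ⨿ B) ⁻¹' V) := by
    ext x
    refine ⟨fun hx => ?_, ?_⟩
    · rcases hc.codisjoint.top_le (Set.mem_univ x) with ⟨a, rfl⟩ | ⟨a, rfl⟩
      · exact Or.inl ⟨a, hx, rfl⟩
      · exact Or.inr ⟨a, hx, rfl⟩
    · rintro (⟨a, ha, rfl⟩ | ⟨a, ha, rfl⟩) <;> exact ha
  rw [e]
  refine (key A coprod.inl ?_ ‹_›).union (key B coprod.inr ?_ ‹_›)
  · exact ⟨hc.compl_eq.symm ▸ (coprod.inr : B ⟶ A ⨿ B).isOpenEmbedding.isOpen_range⟩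
  · exact ⟨hc.symm.compl_eq.symm ▸ (coprod.inl : A ⟶ A ⨿ B).isOpenEmbedding.isOpen_range⟩

variable {S Y : Scheme.{u}} [CompactSpace S] [QuasiSeparatedSpace S] [CompactSpace Y]
  [QuasiSeparatedSpace Y] {I : Type u} [Preorder I] [IsDirected I (fun a b => a ≤ b)] [Nonempty I]

/-- An affine morphism `f : S ⟶ Y` and a system over an open `W` of `Y` with limit over `W` in `S`. -/
structure Setup (S Y : Scheme.{u}) (I : Type u) [Preorder I] where
  /-- The map to the base. -/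
  f : S ⟶ Y
  affine_f : IsAffineHom f
  /-- The open of the base. -/
  W : Y.Opens
  compact_W : IsCompact (W : Set Y)
  /-- The system. -/
  D : Iᵒᵖ ⥤ Scheme.{u}
  affine_D : ∀ (i j : Iᵒᵖ) (a : i ⟶ j), IsAffineHom (D.map a)
  compact_D : ∀ i, CompactSpace (D.obj i)
  qs_D : ∀ i, QuasiSeparatedSpace (D.obj i)
  ft_D : ∀ i, LocallyOfFiniteType (toZ (D.obj i))
  /-- Its limit. -/
  c : Cone D
  hc : IsLimit c
  compact_c : CompactSpace c.pt
  /-- The limit as an open of `S`. -/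
  emb : c.pt ⟶ S
  open_emb : IsOpenImmersion emb
  hW : f ⁻¹ᵁ W ≤ emb.opensRange
  /-- A stage mapping to `W`. -/
  i₁ : I
  /-- The map to the base at that stage. -/
  q₀ : D.obj (op i₁) ⟶ Y
  fac : c.π.app (op i₁) ≫ q₀ = emb ≫ f
  mem : ∀ e, q₀ e ∈ W
  aff : ∀ U : Y.affineOpens, U.1 ≤ W → IsAffineOpen (q₀ ⁻¹ᵁ U.1)

attribute [instance] Setup.affine_f Setup.affine_D Setup.compact_D Setup.qs_D Setup.ft_D Setup.compact_c
  Setup.open_emb

variable (X : Setup S Y I)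

namespace Setup

instance : QuasiSeparatedSpace X.c.pt := quasiSeparatedSpace_of_quasiSeparated X.emb

/-- Indices beyond `i₁`. -/
abbrev K : Type u := {i : I // X.i₁ ≤ i}

instance : Nonempty X.K := ⟨⟨X.i₁, le_rfl⟩⟩

theorem exists_ge (a b : X.K) : ∃ k : X.K, a ≤ k ∧ b ≤ k :=
  let ⟨i, ha, hb⟩ := directed_of (fun a b => a ≤ b) a.1 b.1
  ⟨⟨i, a.2.trans ha⟩, ha, hb⟩

/-- The scheme at a stage. -/
abbrev E (k : X.K) : Scheme.{u} := X.D.obj (op k.1)

/-- Transition maps. -/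
noncomputable abbrev m {k l : X.K} (h : k ≤ l) : X.E l ⟶ X.E k := X.D.map (homOfLE h).op

/-- The map to the base at a stage. -/
noncomputable def q (k : X.K) : X.E k ⟶ Y := X.D.map (homOfLE k.2).op ≫ X.q₀

/-- The projection from the limit. -/
noncomputable abbrev v (k : X.K) : X.c.pt ⟶ X.E k := X.c.π.app (op k.1)

theorem v_q (k : X.K) : X.v k ≫ X.q k = X.emb ≫ X.f := by
  rw [q, ← Category.assoc, X.c.w]; exact X.fac

theorem m_q {k l : X.K} (h : k ≤ l) : X.m h ≫ X.q k = X.q l := by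
  rw [q, q, ← Category.assoc, ← X.D.map_comp]; rfl

@[reassoc]
theorem v_m {k l : X.K} (h : k ≤ l) : X.v l ≫ X.m h = X.v k := X.c.w _

theorem m_refl (k : X.K) : X.m (le_refl k) = 𝟙 _ := X.D.map_id _

@[reassoc]
theorem m_trans {k l n : X.K} (hkl : k ≤ l) (hln : l ≤ n) : X.m hln ≫ X.m hkl = X.m (hkl.trans hln) :=
  (X.D.map_comp _ _).symm

instance (k : X.K) : LocallyOfFiniteType (X.q k) := by
  haveI : LocallyOfFiniteType (X.q k ≫ toZ Y) := by rw [comp_toZ]; infer_instance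
  exact locallyOfFiniteType_of_comp (X.q k) (toZ Y)

theorem q_mem (k : X.K) (e : X.E k) : X.q k e ∈ X.W := X.mem _

theorem aff_q (k : X.K) (U : Y.affineOpens) (hU : U.1 ≤ X.W) : IsAffineOpen (X.q k ⁻¹ᵁ U.1) := by
  rw [q, Scheme.Hom.comp_preimage]
  exact (X.aff U hU).preimage _

/-- The structure map at a stage. -/
noncomputable abbrev F (k : X.K) : S ⨿ X.E k ⟶ Y := glue X.f (X.q k)

/-- Pairs at a stage. -/
noncomputable abbrev P (k : X.K) : Sub (X.F k) := pairs X.f (X.q k) X.emb (X.v k) (X.v_q k)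

/-- Transition maps of disjoint unions. -/
noncomputable abbrev h {k l : X.K} (hkl : k ≤ l) : S ⨿ X.E l ⟶ S ⨿ X.E k := coprod.map (𝟙 S) (X.m hkl)

theorem h_F {k l : X.K} (hkl : k ≤ l) : X.h hkl ≫ X.F k = X.F l := by
  rw [h, F, coprod.map_desc, Category.id_comp, m_q]

/-- Pull back of sections. -/
noncomputable abbrev hsec {k l : X.K} (hkl : k ≤ l) (U : Y.Opens) :
    Γ(S ⨿ X.E k, X.F k ⁻¹ᵁ U) ⟶ Γ(S ⨿ X.E l, X.F l ⁻¹ᵁ U) :=
  (X.h hkl).appLE _ _ (preimage_le _ _ (X.h_F hkl) U)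

theorem pr₁_hsec {k l : X.K} (hkl : k ≤ l) (U : Y.Opens) (x) :
    pr₁ X.f (X.q l) U (X.hsec hkl U x) = pr₁ X.f (X.q k) U x := by
  simp only [← CommRingCat.comp_apply, Scheme.Hom.appLE_comp_appLE, coprod.inl_map, Category.id_comp]

theorem pr₂_hsec {k l : X.K} (hkl : k ≤ l) (U : Y.Opens) (x) :
    pr₂ X.f (X.q l) U (X.hsec hkl U x) =
      (X.m hkl).appLE (X.q k ⁻¹ᵁ U) (X.q l ⁻¹ᵁ U) (preimage_le _ _ (X.m_q hkl) U) (pr₂ X.f (X.q k) U x) := by
  simp only [← CommRingCat.comp_apply, Scheme.Hom.appLE_comp_appLE, coprod.inr_map]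

theorem hsec_mem {k l : X.K} (hkl : k ≤ l) (U : Y.affineOpens) {x} (hx : x ∈ (X.P k).S U) :
    X.hsec hkl U.1 x ∈ (X.P l).S U := by
  rw [mem_pairs] at hx ⊢
  rw [X.pr₁_hsec, X.pr₂_hsec, hx]
  simp only [← CommRingCat.comp_apply, Scheme.Hom.appLE_comp_appLE, X.v_m_assoc]

theorem hsec_refl (k : X.K) (U : Y.Opens) (x) : X.hsec (le_refl k) U x = x := by
  refine (bijective_pr X.f (X.q k) U).1 (Prod.ext (X.pr₁_hsec _ U x) ((X.pr₂_hsec _ U x).trans ?_))
  simp only [← CommRingCat.comp_apply, Scheme.Hom.appLE_comp_appLE, X.m_refl, Category.id_comp]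

theorem hsec_trans {k l n : X.K} (hkl : k ≤ l) (hln : l ≤ n) (U : Y.Opens) (x) :
    X.hsec (hkl.trans hln) U x = X.hsec hln U (X.hsec hkl U x) := by
  refine (bijective_pr X.f (X.q n) U).1 (Prod.ext ?_ ?_)
  · show pr₁ X.f (X.q n) U _ = pr₁ X.f (X.q n) U _
    rw [X.pr₁_hsec, X.pr₁_hsec, X.pr₁_hsec]
  · show pr₂ X.f (X.q n) U _ = pr₂ X.f (X.q n) U _
    rw [X.pr₂_hsec, X.pr₂_hsec, X.pr₂_hsec]
    simp only [← CommRingCat.comp_apply, Scheme.Hom.appLE_comp_appLE, X.m_trans_assoc]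

theorem rX_hsec {k l : X.K} (hkl : k ≤ l) {U U' : Y.Opens} (h : U ≤ U') (x) :
    rX (X.F l) h (X.hsec hkl U' x) = X.hsec hkl U (rX (X.F k) h x) := by
  simp only [rX, ← CommRingCat.comp_apply, Scheme.Hom.appLE_map, Scheme.Hom.map_appLE]

theorem hsec_app {k l : X.K} (hkl : k ≤ l) (U : Y.Opens) (s) :
    X.hsec hkl U ((X.F k).app U s) = (X.F l).app U s := by
  simp only [Scheme.Hom.app_eq_appLE, ← CommRingCat.comp_apply, Scheme.Hom.appLE_comp_appLE, X.h_F]

/-- A stage of the approximation. -/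
structure Idx where
  /-- The index. -/
  i : X.K
  /-- The subalgebra. -/
  J : Sub (X.F i)
  good : IsGood (X.v_q i) X.W J

variable {X}

instance : Preorder X.Idx where
  le a b := ∃ h : a.i ≤ b.i, ∀ (U : Y.affineOpens), ∀ x ∈ a.J.S U, X.hsec h U.1 x ∈ b.J.S U
  le_refl a := ⟨le_rfl, fun U x hx => by rwa [X.hsec_refl]⟩
  le_trans a b c := fun ⟨h, hx⟩ ⟨h', hx'⟩ => ⟨h.trans h', fun U x hU => by
    rw [X.hsec_trans h h']; exact hx' U _ (hx U x hU)⟩

theorem Idx.le_of_le {i : X.K} {J K : Sub (X.F i)} (hJ : IsGood (X.v_q i) X.W J) (hK : IsGood (X.v_q i) X.W K)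
    (h : J ≤ K) : (⟨i, J, hJ⟩ : X.Idx) ≤ ⟨i, K, hK⟩ :=
  ⟨le_rfl, fun U x hx => by rw [X.hsec_refl]; exact h U hx⟩

/-- Any stage maps to one at a bigger index. -/
theorem Idx.exists_at (a : X.Idx) {k : X.K} (hk : a.i ≤ k) :
    ∃ (J : Sub (X.F k)) (hJ : IsGood (X.v_q k) X.W J), a ≤ ⟨k, J, hJ⟩ := by
  classical
  obtain ⟨T, hT, hTeq⟩ := isCompact_iff_finite_and_eq_biUnion_affineOpens.1
    (show IsCompact ((⊤ : Y.Opens) : Set Y) from isCompact_univ)
  choose t ht ht' using fun U => a.good.fg U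
  obtain ⟨J, hJ, hJt⟩ := exists_good_family (X.v_q k) X.hW X.compact_W (X.aff_q k) hT.toFinset id
    (fun U => (t U).image (X.hsec hk U.1)) (fun U z hz => by
      obtain ⟨x, hx, rfl⟩ := Finset.mem_image.mp hz
      exact X.hsec_mem hk U (a.good.le U (ht U hx)))
  refine ⟨J, hJ, hk, fun U x hx => J.mem_of_cover U _ fun y hy => ?_⟩
  have hyT : y ∈ (⊤ : Y.Opens) := trivial
  rw [hTeq] at hyT
  simp only [Opens.mem_iSup] at hyT
  obtain ⟨B, hB, hyB⟩ := hyT
  obtain ⟨g, hg, hyg⟩ := U.2.exists_basicOpen_le ⟨y, hyB⟩ hy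
  refine ⟨g, hyg, ?_⟩
  rw [X.rX_hsec]
  have h1 := a.J.le_gen (U := bas U g) (V := B) hg (a.J.res_mem U g x hx)
  have h2 : gen (X.F a.i) B.1 (a.J.S B) (Y.basicOpen g) hg ≤
      (J.S (bas U g)).comap (X.hsec hk (Y.basicOpen g)).hom := by
    rw [gen, Subring.closure_le]
    rintro _ (⟨s, rfl⟩ | ⟨z, hz, rfl⟩)
    · show X.hsec hk _ _ ∈ J.S (bas U g)
      rw [X.hsec_app]
      exact J.app_mem (bas U g) s
    · show X.hsec hk _ _ ∈ J.S (bas U g)
      rw [← X.rX_hsec]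
      refine J.map_rX_le (U := bas U g) hg ?_
      have hz' := ht' B hz
      have h3 : gen (X.F a.i) B.1 (t B) B.1 le_rfl ≤ (J.S B).comap (X.hsec hk B.1).hom := by
        rw [gen, Subring.closure_le]
        rintro _ (⟨s, rfl⟩ | ⟨z', hz'', rfl⟩)
        · show X.hsec hk _ _ ∈ J.S B
          rw [X.hsec_app]
          exact J.app_mem B s
        · show X.hsec hk _ _ ∈ J.S B
          rw [rX_refl]
          exact hJt B (hT.mem_toFinset.2 hB) (Finset.mem_image_of_mem _ hz'')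
      exact h3 hz'
  exact h2 h1

instance : IsDirected X.Idx (fun a b => a ≤ b) := ⟨fun a b => by
  obtain ⟨k, hak, hbk⟩ := X.exists_ge a.i b.i
  obtain ⟨J, hJ, haJ⟩ := a.exists_at hak
  obtain ⟨L, hL, hbL⟩ := b.exists_at hbk
  exact ⟨⟨k, J.sup L, hJ.sup _ hL⟩, haJ.trans (Idx.le_of_le _ _ (J.le_sup_left' L)),
    hbL.trans (Idx.le_of_le _ _ (J.le_sup_right' L))⟩⟩

/-- Finitely many pairs lie in a stage. -/
theorem exists_stage_mem (k : X.K) (U : Y.affineOpens) (x : Γ(S ⨿ X.E k, X.F k ⁻¹ᵁ U.1))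
    (hx : x ∈ (X.P k).S U) : ∃ (J : Sub (X.F k)), IsGood (X.v_q k) X.W J ∧ x ∈ J.S U := by
  classical
  obtain ⟨J, hJ, hs⟩ := exists_good (X.v_q k) X.hW X.compact_W (X.aff_q k) U {x} (by simpa using hx)
  exact ⟨J, hJ, hs (Finset.mem_singleton_self x)⟩

instance : Nonempty X.Idx := by
  obtain ⟨J, hJ, -⟩ := exists_good (X.v_q (Classical.arbitrary X.K)) X.hW X.compact_W (X.aff_q _)
    ⟨⊥, isAffineOpen_bot Y⟩ ∅ (by simp)
  exact ⟨⟨_, J, hJ⟩⟩

namespace Idx

variable (a : X.Idx)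

/-- As a finite type subalgebra. -/
noncomputable abbrev fgSub : FGSub (X.F a.i) := ⟨a.J, a.good.fg⟩

/-- The scheme. -/
noncomputable abbrev spec : Scheme.{u} := a.fgSub.spec

/-- Its map to the base. -/
noncomputable abbrev proj : a.spec ⟶ Y := a.fgSub.proj

/-- The map from the disjoint union. -/
noncomputable abbrev toSpec : S ⨿ X.E a.i ⟶ a.spec := a.fgSub.toSpec

/-- The map from `S`. -/
noncomputable abbrev fromS : S ⟶ a.spec := coprod.inl ≫ a.toSpec

theorem fromS_proj : a.fromS ≫ a.proj = X.f := by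
  rw [Category.assoc, FGSub.toSpec_proj, coprod.inl_desc]

variable {a}

theorem exists_map {b : X.Idx} (h : a ≤ b) :
    ∃ g : b.spec ⟶ a.spec, g ≫ a.proj = b.proj ∧ b.toSpec ≫ g = X.h h.1 ≫ a.toSpec := by
  refine b.fgSub.isSpec.exists_hom a.proj _ (by rw [Category.assoc, FGSub.toSpec_proj, X.h_F]) fun U => ?_
  rintro _ ⟨z, rfl⟩
  have e : (X.h h.1 ≫ a.toSpec).appLE (a.proj ⁻¹ᵁ U.1) (X.F b.i ⁻¹ᵁ U.1)
      (preimage_le _ _ (by rw [Category.assoc, FGSub.toSpec_proj, X.h_F]) _) z =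
      X.hsec h.1 U.1 (a.toSpec.appLE (a.proj ⁻¹ᵁ U.1) (X.F a.i ⁻¹ᵁ U.1)
        (preimage_le _ _ a.fgSub.toSpec_proj _) z) := by
    simp only [← CommRingCat.comp_apply, Scheme.Hom.appLE_comp_appLE]
  rw [show ((X.h h.1 ≫ a.toSpec).appLE (a.proj ⁻¹ᵁ U.1) (X.F b.i ⁻¹ᵁ U.1) _).hom z = _ from e]
  exact h.2 U _ ((a.fgSub.isSpec.range_eq U).le ⟨z, rfl⟩)

/-- Transition maps. -/
noncomputable def map {b : X.Idx} (h : a ≤ b) : b.spec ⟶ a.spec := (exists_map h).choose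

@[reassoc (attr := simp)]
theorem map_proj {b : X.Idx} (h : a ≤ b) : map h ≫ a.proj = b.proj := (exists_map h).choose_spec.1

@[reassoc]
theorem toSpec_map {b : X.Idx} (h : a ≤ b) : b.toSpec ≫ map h = X.h h.1 ≫ a.toSpec :=
  (exists_map h).choose_spec.2

theorem fromS_map {b : X.Idx} (h : a ≤ b) : b.fromS ≫ map h = a.fromS := by
  rw [Category.assoc, toSpec_map, coprod.inl_map_assoc, Category.id_comp]

theorem map_refl : map (le_refl a) = 𝟙 a.spec :=
  a.fgSub.isSpec.hom_ext a.proj (map_proj _) (Category.id_comp _) (by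
    rw [toSpec_map, Category.comp_id, show X.h (le_refl a).1 = 𝟙 _ from by
      rw [Setup.h, X.m_refl, coprod.map_id_id],
      Category.id_comp])

theorem map_trans {b c : X.Idx} (h : a ≤ b) (h' : b ≤ c) : map (h.trans h') = map h' ≫ map h :=
  c.fgSub.isSpec.hom_ext a.proj (map_proj _) (by rw [Category.assoc, map_proj, map_proj]) (by
    rw [toSpec_map, toSpec_map_assoc, toSpec_map, ← Category.assoc]
    congr 1
    simp only [Setup.h, coprod.map_map, Category.comp_id, X.m_trans])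

instance {b : X.Idx} (h : a ≤ b) : IsAffineHom (map h) := by
  haveI : IsAffineHom (map h ≫ a.proj) := by rw [map_proj]; infer_instance
  exact MorphismProperty.of_postcomp @IsAffineHom (map h) a.proj
    (show IsSeparated a.proj from inferInstance) ‹_›

end Idx

variable (X)

/-- The approximating system. -/
noncomputable def DS : X.Idxᵒᵖ ⥤ Scheme.{u} where
  obj a := a.unop.spec
  map {a b} g := Idx.map g.unop.le
  map_id a := Idx.map_refl
  map_comp g g' := Idx.map_trans g'.unop.le g.unop.le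

/-- `S` over the system. -/
noncomputable def cS : Cone X.DS where
  pt := S
  π :=
    { app := fun a => a.unop.fromS
      naturality := fun a b g => by
        show 𝟙 S ≫ _ = _ ≫ Idx.map g.unop.le
        rw [Category.id_comp]
        exact (Idx.fromS_map _).symm }

end Setup

end Groth.Agent.H7Lim.Approx.RelOpen
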